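import Groth.Agent.Lib.Pur25.Sections
import Groth.Agent.Lib.NeronCrit19.Basic
import Groth.Agent.Lib.DvrConn4
import Groth.Agent.Lib.AffGrp19.Basic
import Groth.Agent.Lib.RelMin32.Basic
import Groth.Agent.Lib.StableBlowUp3.Finite
import Mathlib

/-!
# Functions on a proper model with reduced special fibre
-/

set_option autoImplicit false
set_option linter.style.haveILetI false
set_option linter.unusedSectionVars false
set_option backward.isDefEq.respectTransparency false
set_option maxHeartbeats 1000000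

universe u

open CategoryTheory CategoryTheory.Limits AlgebraicGeometry TopologicalSpace

noncomputable section

namespace Groth.Agent.SemiFactApp32

variable {R : Type u} [CommRing R] {Z : Scheme.{u}} (g : Z ⟶ Spec (CommRingCat.of R))

/-- Scalars as sections. -/
def ρ (W : Z.Opens) : R →+* Γ(Z, W) :=
  (Z.presheaf.map (homOfLE (le_top : W ≤ ⊤)).op).hom.comp (Pur25.gΓ g).hom

theorem ρ_res {W W' : Z.Opens} (h : W' ≤ W) (c : R) : Z.presheaf.map (homOfLE h).op (ρ g W c) = ρ g W' c := by
  show Z.presheaf.map (homOfLE h).op (Z.presheaf.map (homOfLE (le_top : W ≤ ⊤)).op _) = _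
  rw [← ConcreteCategory.comp_apply, ← Functor.map_comp]
  rfl

theorem basicOpen_gΓ (c : R) :
    Z.basicOpen (Pur25.gΓ g c) = g ⁻¹ᵁ (PrimeSpectrum.basicOpen c : (Spec (CommRingCat.of R)).Opens) := by
  conv_rhs => rw [← Pur25.toSpecΓ_gΓ g]
  rw [Scheme.Hom.comp_preimage]
  exact (Scheme.toSpecΓ_preimage_basicOpen Z _).symm

theorem basicOpen_ρ (W : Z.Opens) (c : R) :
    Z.basicOpen (ρ g W c) = W ⊓ g ⁻¹ᵁ (PrimeSpectrum.basicOpen c : (Spec (CommRingCat.of R)).Opens) := by
  rw [← basicOpen_gΓ g c]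
  exact Scheme.basicOpen_res Z _ _

/-- Nonzero divisors of the base stay so on a flat scheme. -/
theorem eq_zero_of_mul [Flat g] [IsDomain R] {c : R} (hc : c ≠ 0) (W : Z.Opens) (s : Γ(Z, W))
    (h : ρ g W c * s = 0) : s = 0 := by
  refine TopCat.Presheaf.section_ext Z.sheaf W s 0 fun x hx => ?_
  obtain ⟨V, hV, hxV, hVW'⟩ := exists_isAffineOpen_mem_and_subset (X := Z) (x := x) (U := W) hx
  have hVW : V ≤ W := hVW'
  have h2 : ρ g V c * Z.presheaf.map (homOfLE hVW).op s = 0 := by
    rw [← ρ_res g (W := W) hVW c, ← map_mul, h, map_zero]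
  letI := (ρ g V).toAlgebra
  haveI : Module.Flat R Γ(Z, V) := Pur25.flat_piece g V hV
  have hz : Z.presheaf.map (homOfLE hVW).op s = 0 := by
    refine Pur25.isSMulRegular_self_of_flat (A := R) (N := Γ(Z, V))
      (fun a b hab => mul_left_cancel₀ hc hab) ?_
    show c • _ = c • (0 : Γ(Z, V))
    rw [smul_zero, Algebra.smul_def]
    exact h2
  show Z.presheaf.germ W x hx s = Z.presheaf.germ W x hx 0
  rw [← TopCat.Presheaf.germ_res_apply Z.presheaf (homOfLE hVW) x hxV s, hz, map_zero, map_zero]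

variable {X Y : Over (Spec (CommRingCat.of R))}

theorem app_ρ (π : Y ⟶ X) (V : X.left.Opens) (c : R) :
    π.left.app V (ρ X.hom V c) = ρ Y.hom (π.left ⁻¹ᵁ V) c := by
  show π.left.app V (X.left.presheaf.map (homOfLE (le_top : V ≤ ⊤)).op (Pur25.gΓ X.hom c)) = _
  have hn := ConcreteCategory.congr_hom (π.left.naturality (homOfLE (le_top : V ≤ ⊤)).op) (Pur25.gΓ X.hom c)
  refine hn.trans ?_
  have hg : π.left.appTop (Pur25.gΓ X.hom c) = Pur25.gΓ Y.hom c := by
    show π.left.appTop (X.hom.appTop ((Scheme.ΓSpecIso (CommRingCat.of R)).inv c)) = Y.hom.appTop _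
    rw [← ConcreteCategory.comp_apply, ← Scheme.Hom.comp_appTop, Over.w]
    rfl
  exact congrArg (fun r => Y.left.presheaf.map (homOfLE (le_top : π.left ⁻¹ᵁ V ≤ ⊤)).op r) hg

variable [IsDomain R] [IsDiscreteValuationRing R]

/-- An isomorphism of generic fibres is an isomorphism over the generic open. -/
theorem isIso_restrict (π : Y ⟶ X) (hgen : IsIso ((Neron.genericFibre R).map π)) {ϖ : R} (hϖ : Irreducible ϖ) :
    IsIso (π.left ∣_ X.hom ⁻¹ᵁ (PrimeSpectrum.basicOpen ϖ : (Spec (CommRingCat.of R)).Opens)) := by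
  haveI : IsOpenImmersion (Neron.genPt R) := NeronCrit19.isOpenImmersion_genPt
  let pX := pullback.fst X.hom (Neron.genPt R)
  let pY := pullback.fst Y.hom (Neron.genPt R)
  let m := ((Neron.genericFibre R).map π).left
  haveI : IsIso m := inferInstanceAs (IsIso ((Over.forget _).map ((Neron.genericFibre R).map π)))
  have hm : m ≫ pX = pY ≫ π.left := pullback.lift_fst _ _ _
  have hm' : m ≫ pullback.snd X.hom (Neron.genPt R) = pullback.snd Y.hom (Neron.genPt R) := pullback.lift_snd _ _ _
  have hpb : IsPullback pY m π.left pX := by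
    refine IsPullback.of_bot ?_ hm.symm (IsPullback.of_hasPullback X.hom (Neron.genPt R))
    rw [hm', Over.w]
    exact (IsPullback.of_hasPullback Y.hom (Neron.genPt R))
  have hrange : pX.opensRange = X.hom ⁻¹ᵁ (PrimeSpectrum.basicOpen ϖ : (Spec (CommRingCat.of R)).Opens) := by
    refine Opens.ext ?_
    show Set.range pX = _
    rw [Scheme.Pullback.range_fst, RelMin.range_genPt, Scheme.Hom.coe_preimage]
    refine congrArg (X.hom ⁻¹' ·) (Set.ext fun q => ?_)
    refine ⟨fun h => ?_, fun h => ?_⟩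
    · obtain rfl : q = RelMin.gen R := h
      exact fun h' => hϖ.ne_zero (Ideal.mem_bot.1 h')
    · refine PrimeSpectrum.ext ?_
      by_contra hne
      have hmax := (q : PrimeSpectrum R).isPrime.isMaximal hne
      exact h (IsLocalRing.eq_maximalIdeal hmax ▸ (IsLocalRing.mem_maximalIdeal _).2 hϖ.not_isUnit)
  rw [← hrange]
  refine ((MorphismProperty.isomorphisms Scheme.{u}).arrow_mk_iso_iff (morphismRestrictOpensRange π.left pX)).2 ?_
  show IsIso (pullback.snd π.left pX)
  rw [← hpb.isoPullback_inv_snd]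
  infer_instance

theorem surjective (π : Y ⟶ X) [IsProper π.left] [Flat X.hom] (hgen : IsIso ((Neron.genericFibre R).map π)) :
    Function.Surjective π.left := by
  intro x
  have hspec : RelMin.gen R ⤳ X.hom x :=
    (PrimeSpectrum.le_iff_specializes (RelMin.gen R : PrimeSpectrum R) (X.hom x : PrimeSpectrum R)).1 bot_le
  obtain ⟨z, hz, hzg⟩ := Flat.generalizingMap X.hom hspec
  obtain ⟨y, hy, -⟩ := RelMin.exists_unique_over_gen π hgen hzg
  exact hz.mem_closed π.left.isClosedMap.isClosed_range ⟨y, hy⟩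

/-- A section which becomes divisible upstairs is divisible. -/
theorem dvd_of_app [IsReduced (X.hom.fiber (IsLocalRing.closedPoint R))] (π : Y ⟶ X)
    (hs : Function.Surjective π.left) {ϖ : R} (hϖ : Irreducible ϖ) {V : X.left.Opens} (hV : IsAffineOpen V)
    (t : Γ(X.left, V)) (w : Γ(Y.left, π.left ⁻¹ᵁ V)) (h : π.left.app V t = ρ Y.hom _ ϖ * w) :
    ∃ t', t = ρ X.hom V ϖ * t' := by
  letI := (ρ X.hom V).toAlgebra
  let m : PrimeSpectrum R := IsLocalRing.closedPoint R
  haveI : m.asIdeal.IsMaximal := IsLocalRing.maximalIdeal.isMaximal R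
  have w₀ : hV.fromSpec ≫ X.hom = Spec.map (CommRingCat.ofHom (algebraMap R Γ(X.left, V))) ≫ 𝟙 _ := by
    rw [Category.comp_id]
    conv_lhs => rw [← Pur25.toSpecΓ_gΓ X.hom, ← Category.assoc, hV.fromSpec_toSpecΓ, ← Spec.map_comp]
    rfl
  haveI : _root_.IsReduced (m.asIdeal.Fiber Γ(X.left, V)) :=
    FibRing4.isReduced_fiberRing X.hom hV.fromSpec (𝟙 _) w₀ m ‹_›
  haveI := DvrConn4.isReduced_quotient_of_fiber (B := Γ(X.left, V)) m
  have hmap : m.asIdeal.map (algebraMap R Γ(X.left, V)) = Ideal.span {ρ X.hom V ϖ} := by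
    show (IsLocalRing.maximalIdeal R).map _ = _
    rw [hϖ.maximalIdeal_eq, Ideal.map_span, Set.image_singleton]
    rfl
  have hrad : t ∈ (m.asIdeal.map (algebraMap R Γ(X.left, V))).radical := by
    rw [Ideal.radical_eq_sInf, Ideal.mem_sInf]
    rintro P ⟨hle, hP⟩
    by_contra htP
    let x := hV.fromSpec (⟨P, hP⟩ : PrimeSpectrum Γ(X.left, V))
    have hxt : x ∈ X.left.basicOpen t := by
      show (⟨P, hP⟩ : PrimeSpectrum Γ(X.left, V)) ∈ hV.fromSpec ⁻¹ᵁ X.left.basicOpen t
      rw [hV.fromSpec_preimage_basicOpen]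
      exact htP
    obtain ⟨y, hy⟩ := hs x
    have hyb : y ∈ Y.left.basicOpen (π.left.app V t) := by
      rw [← Scheme.preimage_basicOpen]
      show π.left y ∈ X.left.basicOpen t
      rw [hy]; exact hxt
    rw [h, Scheme.basicOpen_mul, basicOpen_ρ, Opens.mem_inf, Opens.mem_inf] at hyb
    have h1 : Y.hom y ∈ (PrimeSpectrum.basicOpen ϖ : (Spec (CommRingCat.of R)).Opens) := hyb.1.2
    rw [← Over.w π, Scheme.Hom.comp_apply, hy] at h1
    refine h1 ?_
    show ϖ ∈ ((hV.fromSpec ≫ X.hom) (⟨P, hP⟩ : PrimeSpectrum Γ(X.left, V)) : PrimeSpectrum R).asIdeal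
    rw [w₀, Category.comp_id]
    exact hle (hmap ▸ Ideal.mem_span_singleton_self _)
  rw [(Ideal.isRadical_iff_quotient_reduced _).2 ‹_› |>.radical, hmap, Ideal.mem_span_singleton] at hrad
  exact hrad

/-- Functions on a proper model with reduced special fibre. -/
theorem bijective_app [Flat X.hom] [Flat Y.hom] (π : Y ⟶ X) [IsProper π.left]
    (hgen : IsIso ((Neron.genericFibre R).map π)) [IsReduced (X.hom.fiber (IsLocalRing.closedPoint R))]
    (V : X.left.Opens) : Function.Bijective (π.left.app V) := by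
  obtain ⟨ϖ, hϖ⟩ := IsDiscreteValuationRing.exists_irreducible R
  have hs := surjective π hgen
  haveI := isIso_restrict π hgen hϖ
  refine AffGrp19.bijective_app_of_isBasis π.left (fun U : X.left.affineOpens => U.1)
    (by rw [Subtype.range_coe]; exact X.left.isBasis_affineOpens) (fun U => ?_) V
  obtain ⟨V, hV⟩ := U
  show Function.Bijective (π.left.app V)
  let a := ρ X.hom V ϖ
  let B := X.left.basicOpen a
  have hB : B ≤ X.hom ⁻¹ᵁ (PrimeSpectrum.basicOpen ϖ : (Spec (CommRingCat.of R)).Opens) :=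
    (basicOpen_ρ X.hom V ϖ).le.trans inf_le_right
  have hbijB : Function.Bijective (π.left.app B) := StableBlowUp3.bijective_app_of_le π.left hB
  have hres : ∀ r, Y.left.presheaf.map (homOfLE (π.left.preimage_mono (X.left.basicOpen_le a))).op (π.left.app V r) =
      π.left.app B (X.left.presheaf.map (homOfLE (X.left.basicOpen_le a)).op r) := fun r =>
    (ConcreteCategory.congr_hom (π.left.naturality (homOfLE (X.left.basicOpen_le a)).op) r).symm
  haveI : IsLocalization.Away a Γ(X.left, B) := hV.isLocalization_basicOpen a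
  have hnzX : ∀ (n : ℕ) (r : Γ(X.left, V)), a ^ n * r = 0 → r = 0 := fun n r hr => by
    refine eq_zero_of_mul X.hom (pow_ne_zero n hϖ.ne_zero) V r ?_
    rw [map_pow]; exact hr
  have hinj : Function.Injective (π.left.app V) := by
    rw [injective_iff_map_eq_zero]
    intro r hr
    have h0 : X.left.presheaf.map (homOfLE (X.left.basicOpen_le a)).op r = 0 := hbijB.1 (by
      rw [← hres, hr, map_zero, map_zero])
    obtain ⟨⟨_, n, rfl⟩, hn⟩ := (IsLocalization.map_eq_zero_iff (Submonoid.powers a) Γ(X.left, B) r).1 h0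
    exact hnzX n r hn
  refine ⟨hinj, fun s => ?_⟩
  let W := π.left ⁻¹ᵁ V
  let b : Γ(Y.left, W) := π.left.app V a
  have hb : b = ρ Y.hom W ϖ := app_ρ π V ϖ
  have hnzY : ∀ (n : ℕ) (r : Γ(Y.left, W)), b ^ n * r = 0 → r = 0 := fun n r hr => by
    refine eq_zero_of_mul Y.hom (pow_ne_zero n hϖ.ne_zero) W r ?_
    rw [map_pow, ← hb]; exact hr
  -- clear denominators
  obtain ⟨r, hr⟩ := hbijB.2 (Y.left.presheaf.map (homOfLE (π.left.preimage_mono (X.left.basicOpen_le a))).op s)
  obtain ⟨⟨t, _, n, rfl⟩, ht⟩ := IsLocalization.surj (Submonoid.powers a) r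
  have hker : ∃ k, b ^ k * (π.left.app V t - b ^ n * s) = 0 := by
    let z := π.left.app V t - b ^ n * s
    have hz : Y.left.presheaf.map (homOfLE (π.left.preimage_mono (X.left.basicOpen_le a))).op z = 0 := by
      show Y.left.presheaf.map _ (π.left.app V t - b ^ n * s) = 0
      rw [map_sub, map_mul, ← hr, hres, sub_eq_zero]
      rw [show b ^ n = π.left.app V (a ^ n) from (map_pow (π.left.app V).hom a n).symm, hres, ← map_mul]
      refine congrArg _ ?_
      rw [mul_comm]
      exact ht.symm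
    have e : Y.left.basicOpen b = π.left ⁻¹ᵁ B := (Scheme.preimage_basicOpen π.left a).symm
    have hz' : Y.left.presheaf.map (homOfLE (Y.left.basicOpen_le b)).op z = 0 := by
      have e1 : homOfLE (Y.left.basicOpen_le b) = homOfLE e.le ≫ homOfLE (π.left.preimage_mono (X.left.basicOpen_le a)) :=
        Subsingleton.elim _ _
      rw [e1, op_comp, Functor.map_comp, ConcreteCategory.comp_apply, hz, map_zero]
    haveI : IsAffine V.toScheme := hV
    have hWc : IsCompact (W : Set Y.left) := π.left.isCompact_preimage hV.isCompact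
    have hWq : IsQuasiSeparated (W : Set Y.left) := by
      haveI : QuasiSeparatedSpace W.toScheme := quasiSeparatedSpace_of_quasiSeparated (π.left ∣_ V)
      exact (isQuasiSeparated_iff_quasiSeparatedSpace _ W.2).2 ‹_›
    haveI := isLocalization_basicOpen_of_qcqs hWc hWq b
    obtain ⟨⟨_, k, rfl⟩, hk⟩ := (IsLocalization.map_eq_zero_iff (Submonoid.powers b) Γ(Y.left, Y.left.basicOpen b) z).1 hz'
    exact ⟨k, hk⟩
  obtain ⟨k, hk⟩ := hker
  have key : ∀ (n : ℕ) (t : Γ(X.left, V)), π.left.app V t = b ^ n * s → ∃ t', π.left.app V t' = s := by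
    intro n
    induction n with
    | zero => intro t h; exact ⟨t, by simpa using h⟩
    | succ n ih =>
      intro t h
      obtain ⟨t', rfl⟩ := dvd_of_app π hs hϖ hV t (b ^ n * s) (by rw [h, pow_succ', mul_assoc, hb])
      refine ih t' ?_
      rw [map_mul, pow_succ', mul_assoc] at h
      refine sub_eq_zero.1 (hnzY 1 _ ?_)
      rw [pow_one, mul_sub, sub_eq_zero]
      exact h
  exact key n t (sub_eq_zero.1 (hnzY k _ hk))

end Groth.Agent.SemiFactApp32
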